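import Cfsg.Agent.Lib.IsolatedPMinimal.Basic
import Cfsg.Agent.Lib.PLocal.Thompson
import Cfsg.Agent.Lib.PLocal.Action
import Cfsg.Agent.Lib.Isolated.Basic
import Cfsg.Agent.Lib.PReduced.Basic
import Cfsg.Agent.Lib.LargeSub.PReducedOf
import Cfsg.Prelude.Def_BaumannBlocks
import Cfsg.Agent.EqLemmas

/-!
Blocks relative to the Baumann subgroup: the elementary facts.

* `residual_closure`, `residual_le`, `le_normalizer_residual`
* `baumann_normalized`, `normalizes_of_normalized`
-/

set_option autoImplicit false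

namespace Cfsg.Agent.Baumann

open Cfsg.Agent.PLocal
open scoped commutatorElement

variable {G : Type*} [Group G] {p : ℕ}

theorem pResidualOf_eq_closure (E : Subgroup G) :
    Cfsg.pResidualOf p E = Subgroup.closure {g : G | g ∈ E ∧ (orderOf g).Coprime p} := by
  rw [Cfsg.pResidualOf, Cfsg.pResidual, MonoidHom.map_closure]
  congr 1
  ext x
  constructor
  · rintro ⟨g, hg, rfl⟩
    exact ⟨g.2, by rwa [Subgroup.coe_subtype, Subgroup.orderOf_coe]⟩
  · rintro ⟨hx, hc⟩
    exact ⟨⟨x, hx⟩, by rwa [Set.mem_ofPred_eq, Subgroup.orderOf_mk], rfl⟩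

variable [Finite G]

/-- A group with `E = O^p(E)` inside `N H` lies in `N`, for a `p`-group `H` normalising `N`. -/
theorem residual_le {E N H : Subgroup G} (hE : Cfsg.pResidualOf p E = E) [Fact p.Prime]
    (hH : IsPGroup p ↥H) (hN : H ≤ Subgroup.normalizer (N : Set G)) (hEN : E ≤ N ⊔ H) : E ≤ N := by
  rw [← hE, pResidualOf_eq_closure, Subgroup.closure_le]
  exact fun g hg => IsolatedPMinimal.mem_of_coprime_mem_sup hH hN (hEN hg.1) hg.2


/-- A Sylow subgroup containing `J(T)` has the same Thompson subgroup. -/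
theorem thompson_eq_of_le [Fact p.Prime] (T R : Sylow p G)
    (hJR : Cfsg.thompsonSubgroupOf p (T : Subgroup G) ≤ (R : Subgroup G)) :
    Cfsg.thompsonSubgroupOf p (R : Subgroup G) = Cfsg.thompsonSubgroupOf p (T : Subgroup G) := by
  obtain ⟨g, hg⟩ := MulAction.exists_smul_eq G T R
  have hR : (R : Subgroup G) = (T : Subgroup G).map (MulAut.conj g).toMonoidHom := by
    rw [← hg]; rfl
  set J := Cfsg.thompsonSubgroupOf p (T : Subgroup G) with hJ
  have hcard : Nat.card ↥(Cfsg.thompsonSubgroupOf p (R : Subgroup G)) = Nat.card J := by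
    rw [hR, ← map_conj_thompsonSubgroupOf, Subgroup.card_map_of_injective (MulAut.conj g).injective]
  refine (Subgroup.eq_of_le_of_card_ge ?_ hcard.le).symm
  have hmem : ∀ A ∈ maxIn (elemAb p) (T : Subgroup G), A ∈ maxIn (elemAb p) (R : Subgroup G) := by
    intro A hA
    have hAJ : A ≤ J := by rw [hJ, thompsonSubgroupOf_eq]; exact le_sSup hA
    refine ⟨hAJ.trans hJR, hA.2.1, fun C hC hCe => ?_⟩
    have := hA.2.2 (C.map (MulAut.conj g⁻¹).toMonoidHom) ?_
      (elemAb_map (MulAut.conj g⁻¹).toMonoidHom hCe)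
    · rwa [Subgroup.card_map_of_injective (MulAut.conj g⁻¹).injective] at this
    · rintro _ ⟨c, hc, rfl⟩
      have h := hC hc
      rw [hR] at h
      obtain ⟨t, ht, rfl⟩ := h
      show g⁻¹ * (g * t * g⁻¹) * g⁻¹⁻¹ ∈ (T : Subgroup G)
      rw [show g⁻¹ * (g * t * g⁻¹) * g⁻¹⁻¹ = t by group]
      exact ht
  rw [hJ, thompsonSubgroupOf_eq, thompsonSubgroupOf_eq]
  exact sSup_le fun A hA => le_sSup (hmem A hA)


/-- A Sylow subgroup containing `B(T)` has the same Baumann subgroup. -/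
theorem baumann_eq_of_le [Fact p.Prime] (T R : Sylow p G)
    (hBR' : Cfsg.baumannSubgroupOf p (T : Subgroup G) ≤ (R : Subgroup G)) :
    Cfsg.baumannSubgroupOf p (R : Subgroup G) = Cfsg.baumannSubgroupOf p (T : Subgroup G) := by
  obtain ⟨g, hg⟩ := MulAction.exists_smul_eq G T R
  have hR : (R : Subgroup G) = (T : Subgroup G).map (MulAut.conj g).toMonoidHom := by
    rw [← hg]; rfl
  set J := Cfsg.thompsonSubgroupOf p (T : Subgroup G) with hJ
  have hJB : J ≤ Cfsg.baumannSubgroupOf p (T : Subgroup G) := by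
    refine le_inf (thompsonSubgroupOf_le _) (Subgroup.le_centralizer_iff.mpr fun z hz => ?_)
    exact Subgroup.mem_centralizer_iff.mpr fun j hj => ((PReduced.mem_omegaOne_center.mp hz).2.1 j hj)
  have hJeq : Cfsg.thompsonSubgroupOf p (R : Subgroup G) = J := thompson_eq_of_le T R (hJB.trans hBR')
  refine (Subgroup.eq_of_le_of_card_ge ?_ (le_of_eq ?_)).symm
  · refine le_inf (hBR') ?_
    rw [Cfsg.centerThompsonOf, hJeq]
    exact inf_le_right
  · have hz : ∀ U : Subgroup G, (Cfsg.baumannSubgroupOf p U).map (MulAut.conj g).toMonoidHom =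
        Cfsg.baumannSubgroupOf p (U.map (MulAut.conj g).toMonoidHom) := fun U => by
      rw [Cfsg.baumannSubgroupOf, Cfsg.baumannSubgroupOf, Subgroup.map_inf _ _ _ (MulAut.conj g).injective]
      congr 1
      ext x
      simp only [Cfsg.centerThompsonOf, ← map_conj_thompsonSubgroupOf]
      constructor
      · rintro ⟨y, hy, rfl⟩
        refine Subgroup.mem_centralizer_iff.mpr fun z hz => ?_
        obtain ⟨h1, h2, h3⟩ := PReduced.mem_omegaOne_center.mp hz
        obtain ⟨u, hu, rfl⟩ := h1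
        have hu' : u ∈ Cfsg.omegaOne p (Cfsg.thompsonSubgroupOf p U ⊓
            Subgroup.centralizer (Cfsg.thompsonSubgroupOf p U : Set G)) := by
          refine PReduced.mem_omegaOne_center.mpr ⟨hu, fun t ht => ?_, ?_⟩
          · exact (MulAut.conj g).injective (by
              rw [map_mul, map_mul]; exact h2 _ (Subgroup.mem_map_of_mem _ ht))
          · exact (MulAut.conj g).injective (by rw [map_pow, map_one]; exact h3)
        have := Subgroup.mem_centralizer_iff.mp hy u hu'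
        show MulAut.conj g u * MulAut.conj g y = MulAut.conj g y * MulAut.conj g u
        rw [← map_mul, ← map_mul, this]
      · intro hx
        refine ⟨(MulAut.conj g).symm x, Subgroup.mem_centralizer_iff.mpr fun u hu => ?_,
          (MulAut.conj g).apply_symm_apply x⟩
        obtain ⟨h1, h2, h3⟩ := PReduced.mem_omegaOne_center.mp hu
        have hu' : MulAut.conj g u ∈ Cfsg.omegaOne p
            ((Cfsg.thompsonSubgroupOf p U).map (MulAut.conj g).toMonoidHom ⊓ Subgroup.centralizer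
              (((Cfsg.thompsonSubgroupOf p U).map (MulAut.conj g).toMonoidHom : Subgroup G) : Set G)) := by
          refine PReduced.mem_omegaOne_center.mpr ⟨Subgroup.mem_map_of_mem _ h1, ?_, ?_⟩
          · rintro _ ⟨t, ht, rfl⟩
            show MulAut.conj g t * MulAut.conj g u = MulAut.conj g u * MulAut.conj g t
            rw [← map_mul, ← map_mul, h2 t ht]
          · rw [← map_pow, h3, map_one]
        have := Subgroup.mem_centralizer_iff.mp hx _ hu'
        apply (MulAut.conj g).injective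
        rw [map_mul, map_mul, MulEquiv.apply_symm_apply]
        exact this
    rw [hR, ← hz, Subgroup.card_map_of_injective (MulAut.conj g).injective]


/-- The Baumann subgroup is normal in every Sylow subgroup containing it. -/
theorem baumann_normalized [Fact p.Prime] (T : Sylow p G) {P : Subgroup G} (hP : IsPGroup p ↥P)
    (hBP : Cfsg.baumannSubgroupOf p (T : Subgroup G) ≤ P) :
    P ≤ Subgroup.normalizer (Cfsg.baumannSubgroupOf p (T : Subgroup G) : Set G) := by
  obtain ⟨R, hPR⟩ := hP.exists_le_sylow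
  have hBR := baumann_eq_of_le T R (hBP.trans hPR)
  intro x hx
  rw [← hBR]
  have h1 : (R : Subgroup G) ≤ Subgroup.normalizer (Cfsg.thompsonSubgroupOf p (R : Subgroup G) : Set G) :=
    Subgroup.le_normalizer.trans (normalizer_le_normalizer_thompsonSubgroupOf _)
  refine (Subgroup.inf_normalizer_le_normalizer_inf (H := (R : Subgroup G))) ⟨Subgroup.le_normalizer (hPR hx), ?_⟩
  refine (normalizer_le_normalizer_centralizer _) ?_
  have hx' := Subgroup.mem_normalizer_iff.mp (h1 (hPR hx))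
  rw [Subgroup.mem_normalizer_iff]
  intro v
  simp only [Cfsg.centerThompsonOf, PReduced.mem_omegaOne_center, conj_pow, conj_eq_one_iff, ← hx' v]
  refine and_congr_right fun _ => and_congr_left fun _ => ⟨fun h t ht => ?_, fun h t ht => ?_⟩
  · have := h _ ((Subgroup.mem_normalizer_iff''.mp (h1 (hPR hx)) t).mp ht)
    calc t * (x * v * x⁻¹) = x * ((x⁻¹ * t * x) * v) * x⁻¹ := by group
      _ = x * (v * (x⁻¹ * t * x)) * x⁻¹ := by rw [this]
      _ = x * v * x⁻¹ * t := by group
  · have := h _ ((hx' t).mp ht)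
    calc t * v = x⁻¹ * ((x * t * x⁻¹) * (x * v * x⁻¹)) * x := by group
      _ = x⁻¹ * ((x * v * x⁻¹) * (x * t * x⁻¹)) * x := by rw [this]
      _ = v * t := by group

omit [Finite G] in
theorem commutator_le_self_of_eq {E B : Subgroup G} (h : ⁅E, B⁆ = E) : B ≤ Subgroup.normalizer (E : Set G) :=
  Subgroup.le_normalizer_iff_commutator_le_left.mpr h.le

/-- A `p`-group normalised by `B(T)` and `E = [E, B(T)] = O^p(E)` normalises `E`. -/
theorem normalizes_of_normalized [Fact p.Prime] (T : Sylow p G) {E Q : Subgroup G}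
    (hres : Cfsg.pResidualOf p E = E) (hEB : ⁅E, Cfsg.baumannSubgroupOf p (T : Subgroup G)⁆ = E)
    (hQ : IsPGroup p ↥Q) (hBQ : Cfsg.baumannSubgroupOf p (T : Subgroup G) ≤ Subgroup.normalizer (Q : Set G))
    (hEQ : E ≤ Subgroup.normalizer (Q : Set G)) : Q ≤ Subgroup.normalizer (E : Set G) := by
  set B := Cfsg.baumannSubgroupOf p (T : Subgroup G) with hB
  have hBE := commutator_le_self_of_eq hEB
  have hBp : IsPGroup p ↥B := T.2.to_le inf_le_left
  have hQB : Q ≤ Subgroup.normalizer (B : Set G) :=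
    le_sup_left.trans (baumann_normalized T (hQ.to_sup_of_normal_left' hBp hBQ) le_sup_right)
  set R₀ := Q ⊓ Subgroup.normalizer (E : Set G) with hR₀
  refine inf_eq_left.mp (Cfsg.Agent.Isolated.eq_of_normalizer_le hQ inf_le_left fun r hrQ hr => ?_)
  by_contra hr0
  have hnN : ∀ g : G, g ∈ Subgroup.normalizer (E : Set G) → g ∈ Subgroup.normalizer (Q : Set G) →
      g ∈ Subgroup.normalizer (R₀ : Set G) := fun g h1 h2 =>
    Subgroup.inf_normalizer_le_normalizer_inf ⟨h2, Subgroup.le_normalizer h1⟩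
  set R₁ := Q ⊓ Subgroup.normalizer (R₀ : Set G) with hR₁
  have hER₀ : E ≤ Subgroup.normalizer (R₀ : Set G) := fun e he => hnN e (Subgroup.le_normalizer he) (hEQ he)
  have hER₁ : E ≤ Subgroup.normalizer (R₁ : Set G) := fun e he =>
    Subgroup.inf_normalizer_le_normalizer_inf ⟨hEQ he, Subgroup.le_normalizer (hER₀ he)⟩
  -- elements centralising `R₁ / R₀`
  let N₀ : Subgroup G :=
    { carrier := {g | g ∈ Subgroup.normalizer (R₁ : Set G) ∧ g ∈ Subgroup.normalizer (R₀ : Set G) ∧
        ∀ v ∈ R₁, v * g * v⁻¹ * g⁻¹ ∈ R₀}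
      one_mem' := ⟨one_mem _, one_mem _, fun v _ => by simp⟩
      mul_mem' := fun {a b} ha hb => ⟨mul_mem ha.1 hb.1, mul_mem ha.2.1 hb.2.1, fun v hv => by
        rw [show v * (a * b) * v⁻¹ * (a * b)⁻¹ =
          (v * a * v⁻¹ * a⁻¹) * (a * (v * b * v⁻¹ * b⁻¹) * a⁻¹) by group]
        exact mul_mem (ha.2.2 v hv) ((Subgroup.mem_normalizer_iff.mp ha.2.1 _).mp (hb.2.2 v hv))⟩
      inv_mem' := fun {a} ha => ⟨inv_mem ha.1, inv_mem ha.2.1, fun v hv => by
        rw [show v * a⁻¹ * v⁻¹ * a⁻¹⁻¹ = a⁻¹ * (v * a * v⁻¹ * a⁻¹)⁻¹ * a by group]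
        exact (Subgroup.mem_normalizer_iff''.mp ha.2.1 _).mp (inv_mem (ha.2.2 v hv))⟩ }
  have hBN : B ≤ N₀ := fun b hb => by
    have h₀ := hnN b (hBE hb) (hBQ hb)
    refine ⟨Subgroup.inf_normalizer_le_normalizer_inf ⟨hBQ hb, Subgroup.le_normalizer h₀⟩, h₀, fun v hv => ?_⟩
    refine ⟨?_, hBE ?_⟩
    · rw [mul_assoc, mul_assoc, ← mul_assoc b]
      exact Q.mul_mem hv.1 ((Subgroup.mem_normalizer_iff.mp (hBQ hb) _).mp (Q.inv_mem hv.1))
    · exact B.mul_mem ((Subgroup.mem_normalizer_iff.mp (hQB hv.1) b).mp hb) (B.inv_mem hb)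
  have hEN : E ≤ N₀ := by
    rw [← hEB, Subgroup.commutator_le]
    intro e he b hb
    rw [commutatorElement_def]
    refine mul_mem ?_ (inv_mem (hBN hb))
    have hbN := hBN hb
    refine ⟨mul_mem (mul_mem (hER₁ he) hbN.1) (inv_mem (hER₁ he)),
      mul_mem (mul_mem (hER₀ he) hbN.2.1) (inv_mem (hER₀ he)), fun v hv => ?_⟩
    rw [show v * (e * b * e⁻¹) * v⁻¹ * (e * b * e⁻¹)⁻¹ =
      e * ((e⁻¹ * v * e) * b * (e⁻¹ * v * e)⁻¹ * b⁻¹) * e⁻¹ by group]
    exact (Subgroup.mem_normalizer_iff.mp (hER₀ he) _).mp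
      (hbN.2.2 _ ((Subgroup.mem_normalizer_iff''.mp (hER₁ he) v).mp hv))
  refine hr0 ⟨hrQ, Subgroup.mem_normalizer_iff_map_conj_eq.mpr (Subgroup.eq_of_le_of_card_ge ?_
    (Subgroup.card_map_of_injective (MulAut.conj r).injective).ge)⟩
  show E.map (MulAut.conj r).toMonoidHom ≤ E
  conv_lhs => rw [← hres, pResidualOf_eq_closure, MonoidHom.map_closure]
  refine (Subgroup.closure_le _).mpr ?_
  rintro _ ⟨g, ⟨hg, hc⟩, rfl⟩
  refine IsolatedPMinimal.mem_of_coprime_mem_sup (N := E) (hQ.to_le (inf_le_left : R₀ ≤ Q)) inf_le_right ?_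
    (by rwa [orderOf_injective _ (MulAut.conj r).injective])
  show r * g * r⁻¹ ∈ E ⊔ R₀
  rw [show r * g * r⁻¹ = (r * g * r⁻¹ * g⁻¹) * g by group]
  exact mul_mem (Subgroup.mem_sup_right ((hEN hg).2.2 r ⟨hrQ, hr⟩)) (Subgroup.mem_sup_left hg)

end Cfsg.Agent.Baumann
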